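import Groth.Agent.GrLib8.Irrel
import Groth.Prelude.Def_GrSyz
import Groth.Prelude.Def_CohB1
import Mathlib.Algebra.BigOperators.Ring.Finset

/-!
# The Koszul complex of the variables, as functions on subsets
-/

set_option autoImplicit false
set_option linter.unusedSectionVars false

noncomputable section

universe u

open MvPolynomial

namespace Groth.Agent.GrLib8.KoszTwist

variable (n : ℕ) (A : Type u) [CommRing A]

/-- The polynomial ring. -/
abbrev Pol : Type u := MvPolynomial (Fin (n + 1)) A

variable {n A}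

/-- The number of elements of `T` below `j`. -/
def below (T : Finset (Fin (n + 1))) (j : Fin (n + 1)) : ℕ := (T.filter (· < j)).card

/-- The sign of `j` in `T`. -/
def sg (T : Finset (Fin (n + 1))) (j : Fin (n + 1)) : Pol n A := (-1) ^ below T j

theorem sg_mul_self (T : Finset (Fin (n + 1))) (j : Fin (n + 1)) : sg (A := A) T j * sg T j = 1 := by
  rw [sg, ← pow_add, ← two_mul, pow_mul]; simp

theorem below_erase (T : Finset (Fin (n + 1))) {j k : Fin (n + 1)} (hj : j ∈ T) :
    below T k = below (T.erase j) k + if j < k then 1 else 0 := by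
  unfold below
  rw [Finset.filter_erase]
  split
  · next h => rw [Finset.card_erase_add_one (Finset.mem_filter.2 ⟨hj, h⟩)]
  · next h => rw [Finset.erase_eq_of_notMem (s := T.filter (· < k)) (fun hh => h (Finset.mem_filter.1 hh).2), add_zero]

/-- Two removals in either order differ by a sign. -/
theorem sg_swap (T : Finset (Fin (n + 1))) {j k : Fin (n + 1)} (hj : j ∈ T) (hk : k ∈ T) (hjk : j ≠ k) :
    sg (A := A) T j * sg (T.erase j) k = -(sg T k * sg (T.erase k) j) := by
  rcases lt_or_gt_of_ne hjk with h | h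
  · have h1 := below_erase T (k := k) hj
    have h2 := below_erase T (k := j) hk
    rw [if_pos h] at h1
    rw [if_neg (not_lt.2 h.le), add_zero] at h2
    unfold sg
    rw [h1, h2, pow_succ]
    ring
  · have h1 := below_erase T (k := k) hj
    have h2 := below_erase T (k := j) hk
    rw [if_neg (not_lt.2 h.le), add_zero] at h1
    rw [if_pos h] at h2
    unfold sg
    rw [h1, h2, pow_succ]
    ring

/-- The differential. -/
def D : (Finset (Fin (n + 1)) → Pol n A) →ₗ[Pol n A] (Finset (Fin (n + 1)) → Pol n A) where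
  toFun v T := ∑ j ∈ T, sg T j * X j * v (T.erase j)
  map_add' v v' := funext fun T => by
    simp only [Pi.add_apply, mul_add, Finset.sum_add_distrib]
  map_smul' c v := funext fun T => by
    simp only [Pi.smul_apply, smul_eq_mul, RingHom.id_apply, Finset.mul_sum]
    exact Finset.sum_congr rfl fun j _ => by ring

theorem D_apply (v : Finset (Fin (n + 1)) → Pol n A) (T : Finset (Fin (n + 1))) :
    D v T = ∑ j ∈ T, sg T j * X j * v (T.erase j) := rfl

theorem D_D (v : Finset (Fin (n + 1)) → Pol n A) : D (D v) = 0 := by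
  funext T
  simp only [D_apply, Finset.mul_sum, Pi.zero_apply]
  rw [Finset.sum_sigma']
  refine Finset.sum_involution (fun p _ => ⟨p.2, p.1⟩) ?_ ?_ ?_ ?_
  · rintro ⟨j, k⟩ hp
    obtain ⟨hj, hk⟩ := Finset.mem_sigma.1 hp
    obtain ⟨hkj, hkT⟩ := Finset.mem_erase.1 hk
    simp only [Finset.erase_right_comm (a := k) (b := j)]
    linear_combination (X j * X k * v ((T.erase j).erase k)) * sg_swap (A := A) T hj hkT (Ne.symm hkj)
  · rintro ⟨j, k⟩ hp - h
    exact (Finset.mem_erase.1 (Finset.mem_sigma.1 hp).2).1 (congrArg Sigma.fst h)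
  · rintro ⟨j, k⟩ hp
    obtain ⟨hj, hk⟩ := Finset.mem_sigma.1 hp
    obtain ⟨hkj, hkT⟩ := Finset.mem_erase.1 hk
    exact Finset.mem_sigma.2 ⟨hkT, Finset.mem_erase.2 ⟨Ne.symm hkj, hj⟩⟩
  · intros; rfl

/-- The contraction by the variable `l`. -/
def H (l : Fin (n + 1)) : (Finset (Fin (n + 1)) → Pol n A) →ₗ[Pol n A] (Finset (Fin (n + 1)) → Pol n A) where
  toFun v S := if l ∈ S then 0 else sg (insert l S) l * v (insert l S)
  map_add' v v' := funext fun S => by
    simp only [Pi.add_apply]; split <;> simp [mul_add]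
  map_smul' c v := funext fun S => by
    simp only [Pi.smul_apply, smul_eq_mul, RingHom.id_apply]
    split
    · simp
    · ring

theorem D_H (l : Fin (n + 1)) {v : Finset (Fin (n + 1)) → Pol n A} (hv : D v = 0) :
    D (H l v) = (X l : Pol n A) • v := by
  funext T
  simp only [D_apply, Pi.smul_apply, smul_eq_mul]
  by_cases hl : l ∈ T
  · rw [Finset.sum_eq_single l]
    · show sg T l * X l * (if l ∈ T.erase l then 0 else sg (insert l (T.erase l)) l * v (insert l (T.erase l))) = _
      rw [if_neg (Finset.notMem_erase l T), Finset.insert_erase hl]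
      linear_combination (X l * v T) * sg_mul_self (A := A) T l
    · intro j _ hj
      show _ * (if l ∈ T.erase j then 0 else _) = _
      rw [if_pos (Finset.mem_erase.2 ⟨Ne.symm hj, hl⟩), mul_zero]
    · exact fun h => absurd hl h
  · have h0 : D v (insert l T) = 0 := by rw [hv]; rfl
    rw [D_apply, Finset.sum_insert hl, Finset.erase_insert hl] at h0
    have hsum : ∑ j ∈ T, sg T j * X j * H l v (T.erase j) =
        -(sg (insert l T) l) * ∑ j ∈ T, sg (insert l T) j * X j * v ((insert l T).erase j) := by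
      rw [Finset.mul_sum]
      refine Finset.sum_congr rfl fun j hj => ?_
      have hjl : j ≠ l := fun h => hl (h ▸ hj)
      show sg T j * X j * (if l ∈ T.erase j then 0 else sg (insert l (T.erase j)) l * v (insert l (T.erase j))) = _
      rw [if_neg (fun h => hl (Finset.mem_erase.1 h).2),
        show insert l (T.erase j) = (insert l T).erase j from (Finset.erase_insert_of_ne (Ne.symm hjl)).symm]
      have hsw := sg_swap (A := A) (insert l T) (Finset.mem_insert_self l T) (Finset.mem_insert_of_mem hj) (Ne.symm hjl)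
      rw [Finset.erase_insert hl] at hsw
      linear_combination (sg (A := A) (insert l T) l * X j * v ((insert l T).erase j)) * (sg_mul_self (A := A) ((insert l T).erase j) l) * 0 +
        (X j * v ((insert l T).erase j)) * (sg (A := A) (insert l T) l * sg ((insert l T).erase j) l) * hsw -
        (X j * v ((insert l T).erase j)) * (sg (A := A) T j * sg ((insert l T).erase j) l) * sg_mul_self (A := A) (insert l T) l +
        (X j * v ((insert l T).erase j)) * (-(sg (A := A) (insert l T) l * sg (insert l T) j)) * sg_mul_self (A := A) ((insert l T).erase j) l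
    rw [hsum, show ∑ j ∈ T, sg (insert l T) j * X j * v ((insert l T).erase j) = -(sg (insert l T) l * X l * v T) by
      linear_combination h0]
    linear_combination (X l * v T) * sg_mul_self (A := A) (insert l T) l

/-- Functions supported in cardinality `i`. -/
def K (i : ℤ) : Submodule (Pol n A) (Finset (Fin (n + 1)) → Pol n A) where
  carrier := {v | ∀ S : Finset (Fin (n + 1)), (S.card : ℤ) ≠ i → v S = 0}
  zero_mem' _ _ := rfl
  add_mem' h h' S hS := by simp [h S hS, h' S hS]
  smul_mem' c v h S hS := by simp [h S hS]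

theorem D_mem {i j : ℤ} (hij : i + 1 = j) {v : Finset (Fin (n + 1)) → Pol n A} (hv : v ∈ K i) : D v ∈ K j := by
  intro S hS
  rw [D_apply]
  refine Finset.sum_eq_zero fun l hl => ?_
  rw [hv _ fun h => hS ?_, mul_zero]
  have := Finset.card_erase_add_one hl
  omega

theorem H_mem {i j : ℤ} (hij : i + 1 = j) (l : Fin (n + 1)) {v : Finset (Fin (n + 1)) → Pol n A} (hv : v ∈ K j) :
    H l v ∈ K i := by
  intro S hS
  show (if l ∈ S then 0 else _) = _
  split
  · rfl
  · next hl =>
    rw [hv _ fun h => hS ?_, mul_zero]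
    rw [Finset.card_insert_of_notMem hl] at h
    push_cast at h
    omega

theorem stdGr_natCast' (e : ℕ) :
    GrSyz.stdGr A (Fin (n + 1)) (e : ℤ) = CohB1.polyGrading n A e := by
  have hw : ∀ c : Fin (n + 1) →₀ ℕ,
      Finsupp.weight (fun _ : Fin (n + 1) => (1 : ℤ)) c = ((Finsupp.weight (1 : Fin (n + 1) → ℕ) c : ℕ) : ℤ) := by
    intro c
    rw [Finsupp.weight_apply, Finsupp.weight_apply, Finsupp.sum, Finsupp.sum]
    simp
  ext p
  refine (GrSyz.mem_stdGr_iff A (Fin (n + 1)) e p).trans (Iff.trans ?_ (mem_homogeneousSubmodule e p).symm)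
  exact ⟨fun h c hc => Int.ofNat_inj.1 ((hw c).symm.trans (h hc)),
    fun h c hc => (hw c).trans (congrArg _ (h hc))⟩

theorem X_mem_one (l : Fin (n + 1)) : (X l : Pol n A) ∈ CohB1.polyGrading n A 1 := isHomogeneous_X A l

theorem mul_mem_std {e : ℕ} {z z' : ℤ} (h : (e : ℤ) + z = z') {c p : Pol n A} (hc : c ∈ CohB1.polyGrading n A e)
    (hp : p ∈ GrSyz.stdGr A (Fin (n + 1)) z) : c * p ∈ GrSyz.stdGr A (Fin (n + 1)) z' :=
  h ▸ SetLike.mul_mem_graded (show c ∈ GrSyz.stdGr A (Fin (n + 1)) (e : ℤ) by rw [stdGr_natCast']; exact hc) hp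

theorem sg_mul_mem {z : ℤ} (T : Finset (Fin (n + 1))) (j : Fin (n + 1)) {p : Pol n A}
    (hp : p ∈ GrSyz.stdGr A (Fin (n + 1)) z) : sg T j * p ∈ GrSyz.stdGr A (Fin (n + 1)) z := by
  rcases neg_one_pow_eq_or (Pol n A) (below T j) with h | h <;> unfold sg <;> rw [h]
  · rwa [one_mul]
  · rw [neg_one_mul]; exact Submodule.neg_mem _ hp

variable (n A) in
/-- The pieces of the terms, shifted so that the basis of term `i` has degree `-(a + i)`. -/
def P (a i : ℤ) (m : ℕ) : Submodule A ↥(K (n := n) (A := A) i) where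
  carrier := {v | ∀ S, v.1 S ∈ GrSyz.stdGr A (Fin (n + 1)) ((m : ℤ) + (a + i))}
  zero_mem' _ := zero_mem _
  add_mem' h h' S := add_mem (h S) (h' S)
  smul_mem' c _ h S := Submodule.smul_mem _ c (h S)

instance gradedSMul_P (a i : ℤ) : SetLike.GradedSMul (CohB1.polyGrading n A) (P n A a i) :=
  ⟨fun {e m c v} hc hv S => mul_mem_std (by rw [vadd_eq_add]; push_cast; ring) hc (hv S)⟩

/-- The differential between two terms. -/
def d {i j : ℤ} (hij : i + 1 = j) : ↥(K (n := n) (A := A) i) →ₗ[Pol n A] ↥(K (n := n) (A := A) j) :=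
  (D.comp (K i).subtype).codRestrict (K j) fun v => D_mem hij v.2

theorem d_mem {a i j : ℤ} (hij : i + 1 = j) (m : ℕ) (v : ↥(K (n := n) (A := A) i)) (hv : v ∈ P n A a i m) :
    d hij v ∈ P n A a j m := fun S => Submodule.sum_mem _ fun l _ => by
  rw [mul_assoc]
  exact sg_mul_mem S l (mul_mem_std (by push_cast; omega) (X_mem_one l) (hv _))

theorem d_d {i j k : ℤ} (hij : i + 1 = j) (hjk : j + 1 = k) : (d (n := n) (A := A) hjk).comp (d hij) = 0 :=
  LinearMap.ext fun v => Subtype.ext (D_D v.1)

/-- A homogeneous element killed by the differential becomes a boundary after multiplication by a variable. -/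
theorem exists_preimage {a i j k : ℤ} (hij : i + 1 = j) (hjk : j + 1 = k) (l : Fin (n + 1)) (m : ℕ)
    (y : ↥(K (n := n) (A := A) j)) (hy : y ∈ P n A a j m) (h0 : d hjk y = 0) :
    ∃ z ∈ P n A a i (1 + m), d hij z = (X l : Pol n A) • y := by
  refine ⟨⟨H l y.1, H_mem hij l y.2⟩, fun S => ?_, Subtype.ext (D_H l (congrArg Subtype.val h0))⟩
  show (if l ∈ S then 0 else sg (insert l S) l * y.1 (insert l S)) ∈ _
  split
  · exact zero_mem _
  · refine sg_mul_mem _ l ?_
    rw [show (((1 + m : ℕ) : ℕ) : ℤ) + (a + i) = (m : ℤ) + (a + j) by push_cast; omega]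
    exact hy _

end Groth.Agent.GrLib8.KoszTwist
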