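import Groth.Agent.GrLib8.KoszTwist.Mod
import Groth.Agent.GrLib8.KoszTwist.LocalExact
import Groth.Agent.GrLib8.RegTilde.Coord
import Groth.Agent.PnCoh.Sections
import Groth.Prelude.Def_Twist2
import Mathlib.Algebra.Homology.ShortComplex.Abelian
import Mathlib.Algebra.Homology.HomologicalComplexAbelian
import Mathlib.Data.Fintype.Powerset

/-!
# The Koszul complex of twisting sheaves on projective space
-/

set_option autoImplicit false
set_option linter.style.haveILetI false
set_option linter.unusedSectionVars false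
set_option backward.isDefEq.respectTransparency false
set_option backward.isDefEq.respectTransparency.types false
set_option maxHeartbeats 1000000

noncomputable section

universe u

open CategoryTheory CategoryTheory.Limits AlgebraicGeometry TopologicalSpace Opposite DirectSum MvPolynomial

namespace Groth.Agent.GrLib8.KoszTwist

variable {n : ℕ} {A : Type u} [CommRing A]

theorem exists_X_notMem (x : ProjectiveSpectrum (CohB1.polyGrading n A)) :
    ∃ l : Fin (n + 1), (X l : Pol n A) ∉ x.asHomogeneousIdeal := by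
  have hx : x ∈ ⨆ i : Fin (n + 1), PnCoh.mOpen A (Finsupp.single i 1) := by
    rw [PnCoh.iSup_mOpen_single]; trivial
  obtain ⟨i, hi⟩ := Opens.mem_iSup.1 hx
  exact ⟨i, hi⟩

theorem decompose_mul_eq_zero {z : ℤ} {c p : Pol n A} (hp : p ∈ GrSyz.stdGr A (Fin (n + 1)) z) (h : c * p = 0)
    (e : ℕ) : (decompose (CohB1.polyGrading n A) c e : Pol n A) * p = 0 := by
  classical
  rcases lt_or_ge z 0 with hz | hz
  · rw [stdGr_nonneg A _ z hz p hp, mul_zero]
  obtain ⟨j, rfl⟩ := Int.eq_ofNat_of_zero_le hz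
  rw [stdGr_natCast'] at hp
  rw [← coe_decompose_mul_add_of_right_mem (CohB1.polyGrading n A) (i := e) (a := c) hp, h, decompose_zero,
    DirectSum.zero_apply, ZeroMemClass.coe_zero]

variable (n A) in
/-- The term of degree `i`. -/
def T (a i : ℤ) : (CohB1.ProjSpace n A).Modules := GrMod.tilde (CohB1.polyGrading n A) (P n A a i) 0

/-- The differential between two terms. -/
def dT (a : ℤ) {i j : ℤ} (hij : i + 1 = j) : T n A a i ⟶ T n A a j :=
  GrMod.map (CohB1.polyGrading n A) (ℳ := P n A a i) (𝒩 := P n A a j) (d hij) (d_mem hij) 0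

theorem exact_dT (a : ℤ) {i j k : ℤ} (hij : i + 1 = j) (hjk : j + 1 = k) :
    ∃ w : dT (n := n) (A := A) a hij ≫ dT a hjk = 0, Epi (kernel.lift (dT a hjk) (dT a hij) w) :=
  RegTilde.exact_map_tilde' (CohB1.polyGrading n A) (ℳ := P n A a i) (𝒩 := P n A a j) (𝒬 := P n A a k)
    (d hij) (d_mem hij) (d hjk) (d_mem hjk) (d_d hij hjk)
    (fun _ _ v hv hc e => Subtype.ext (funext fun S => decompose_mul_eq_zero (hv S) (congrFun (congrArg Subtype.val hc) S) e))
    (fun x => by
      obtain ⟨l, hl⟩ := exists_X_notMem x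
      exact ⟨1, X l, X_mem_one l, hl, fun m y hy h0 => exists_preimage hij hjk l m y hy h0⟩) 0

variable (n A) in
/-- The complex. -/
def cx (a : ℤ) : CochainComplex (CohB1.ProjSpace n A).Modules ℤ :=
  CochainComplex.of (T n A a) (fun i => dT a (rfl : i + 1 = i + 1)) fun i => (exact_dT a rfl rfl).1

theorem cx_d (a j : ℤ) : (cx n A a).d j (j + 1) = dT a rfl :=
  CochainComplex.of_d (T n A a) (fun i => dT a (rfl : i + 1 = i + 1)) j

theorem exactAt_cx (a i : ℤ) : (cx n A a).ExactAt i := by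
  obtain ⟨j, rfl⟩ : ∃ j, i = j + 1 := ⟨i - 1, by ring⟩
  rw [(cx n A a).exactAt_iff' j (j + 1) (j + 1 + 1) (by simp) (by simp)]
  obtain ⟨w, h⟩ := exact_dT (n := n) (A := A) a (rfl : j + 1 = j + 1) (rfl : j + 1 + 1 = j + 1 + 1)
  have hS : (ShortComplex.mk (dT (n := n) (A := A) a (rfl : j + 1 = j + 1)) (dT a (rfl : j + 1 + 1 = j + 1 + 1)) w).Exact := by
    rw [ShortComplex.exact_iff_epi_kernel_lift]
    exact h
  refine ShortComplex.exact_of_iso (?_ : ShortComplex.mk _ _ w ≅ _) hS
  refine ShortComplex.isoMk (Iso.refl _) (Iso.refl _) (Iso.refl _) ?_ ?_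
  · show 𝟙 _ ≫ (cx n A a).d j (j + 1) = dT a rfl ≫ 𝟙 _
    rw [Category.id_comp, Category.comp_id]; exact cx_d a _
  · show 𝟙 _ ≫ (cx n A a).d (j + 1) (j + 1 + 1) = dT a rfl ≫ 𝟙 _
    rw [Category.id_comp, Category.comp_id]; exact cx_d a _

/-- The subsets indexing the basis of term `i`. -/
abbrev Idx (n : ℕ) (i : ℤ) : Type := {S : Finset (Fin (n + 1)) // (S.card : ℤ) = i}

/-- The basis. -/
def w (i : ℤ) (b : Idx n i) : ↥(K (n := n) (A := A) i) :=
  ⟨Pi.single b.1 1, fun S hS => Pi.single_eq_of_ne (fun h => hS (by rw [h]; exact b.2)) _⟩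

/-- The coordinates. -/
def π (i : ℤ) (b : Idx n i) : ↥(K (n := n) (A := A) i) →ₗ[Pol n A] Pol n A :=
  (LinearMap.proj b.1).comp (K i).subtype

theorem π_w (i : ℤ) (b b' : Idx n i) : π (A := A) i b' (w i b) = if b = b' then 1 else 0 := by
  show (Pi.single b.1 1 : Finset (Fin (n + 1)) → Pol n A) b'.1 = _
  split
  · next h => rw [h, Pi.single_eq_same]
  · next h => rw [Pi.single_eq_of_ne fun e => h (Subtype.ext e.symm)]

theorem total (i : ℤ) (v : ↥(K (n := n) (A := A) i)) : ∑ b, π i b v • w i b = v := by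
  refine Subtype.ext (funext fun S => ?_)
  rw [Submodule.coe_sum, Finset.sum_apply]
  by_cases hS : (S.card : ℤ) = i
  · rw [Finset.sum_eq_single (⟨S, hS⟩ : Idx n i)]
    · show v.1 S • (Pi.single S (1 : Pol n A) : Finset (Fin (n + 1)) → Pol n A) S = v.1 S
      rw [Pi.single_eq_same, smul_eq_mul, mul_one]
    · intro b _ hb
      show v.1 b.1 • (Pi.single b.1 (1 : Pol n A) : Finset (Fin (n + 1)) → Pol n A) S = 0
      rw [Pi.single_eq_of_ne fun e => hb (Subtype.ext e.symm), smul_zero]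
    · exact fun h => absurd (Finset.mem_univ _) h
  · rw [v.2 S hS]
    refine Finset.sum_eq_zero fun b _ => ?_
    show v.1 b.1 • (Pi.single b.1 (1 : Pol n A) : Finset (Fin (n + 1)) → Pol n A) S = 0
    rw [Pi.single_eq_of_ne (fun e => hS (by rw [e]; exact b.2)), smul_zero]

theorem w_mem (a i : ℤ) (b : Idx n i) (e m : ℕ) (hem : (e : ℤ) + -(a + i) = m) (c : Pol n A)
    (hc : c ∈ CohB1.polyGrading n A e) : c • w i b ∈ P n A a i m := by
  intro S
  show c * (Pi.single b.1 (1 : Pol n A) : Finset (Fin (n + 1)) → Pol n A) S ∈ _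
  rcases eq_or_ne S b.1 with rfl | h
  · rw [Pi.single_eq_same, mul_one, show (m : ℤ) + (a + i) = (e : ℤ) by omega, stdGr_natCast']
    exact hc
  · rw [Pi.single_eq_of_ne h, mul_zero]; exact zero_mem _

theorem π_mem (a i : ℤ) (b : Idx n i) (m : ℕ) (v : ↥(K (n := n) (A := A) i)) (hv : v ∈ P n A a i m) :
    π i b v = 0 ∨ ∃ j : ℕ, (j : ℤ) = m - -(a + i) ∧ π i b v ∈ CohB1.polyGrading n A j := by
  rcases lt_or_ge ((m : ℤ) + (a + i)) 0 with h | h
  · exact Or.inl (stdGr_nonneg A _ _ h _ (hv b.1))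
  · obtain ⟨j, hj⟩ := Int.eq_ofNat_of_zero_le h
    refine Or.inr ⟨j, by omega, ?_⟩
    rw [← stdGr_natCast']
    exact hj ▸ hv b.1

/-- The coordinates on the sheaf. -/
def pT (a i : ℤ) (b : Idx n i) : T n A a i ⟶ Twist.twist (CohB1.polyGrading n A) (-(-(a + i))) :=
  RegTilde.pMap (CohB1.polyGrading n A) (π i b) (-(a + i)) (π_mem a i b)

/-- The basis maps on the sheaf. -/
def qT (a i : ℤ) (b : Idx n i) : Twist.twist (CohB1.polyGrading n A) (-(-(a + i))) ⟶ T n A a i :=
  RegTilde.qMap (CohB1.polyGrading n A) (w i b) (-(a + i)) (w_mem a i b)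

theorem pLoc_qLoc (i : ℤ) (b b' : Idx n i) (x : ProjectiveSpectrum (CohB1.polyGrading n A))
    (q : Twist.Loc (CohB1.polyGrading n A) x) :
    RegTilde.pLoc (CohB1.polyGrading n A) (π i b') x (RegTilde.qLoc (CohB1.polyGrading n A) (w i b) x q) =
      if b = b' then q else 0 := by
  induction q using Localization.induction_on with
  | H p =>
    rw [RegTilde.qLoc_mk, RegTilde.pLoc_mk, map_smul, π_w, smul_eq_mul]
    split <;> simp [Localization.mk_zero]

theorem qT_pT_self (a i : ℤ) (b : Idx n i) : qT (A := A) a i b ≫ pT a i b = 𝟙 _ := by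
  refine Scheme.Modules.hom_ext _ _ fun U => ?_
  ext f
  refine Subtype.ext (funext fun y => Subtype.ext ?_)
  exact (pLoc_qLoc i b b y.1 _).trans (if_pos rfl)

theorem qT_pT_ne (a i : ℤ) {b b' : Idx n i} (h : b ≠ b') : qT (A := A) a i b ≫ pT a i b' = 0 := by
  refine Scheme.Modules.hom_ext _ _ fun U => ?_
  ext f
  refine Subtype.ext (funext fun y => Subtype.ext ?_)
  exact (pLoc_qLoc i b b' y.1 _).trans (if_neg h)

variable (n A) in
theorem nonempty_iso (a i : ℤ) :
    Nonempty (T n A a i ≅ ∐ fun _ : Idx n i => Twist.twist (CohB1.polyGrading n A) (-(-(a + i)))) := by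
  classical
  haveI : HasFiniteBiproducts (Proj (CohB1.polyGrading n A)).Modules := HasFiniteBiproducts.of_hasFiniteProducts
  haveI : Finite (Idx n i) := inferInstance
  haveI : HasBiproductsOfShape (Idx n i) (Proj (CohB1.polyGrading n A)).Modules := inferInstance
  haveI : HasBiproductsOfShape (Idx n i) (CohB1.ProjSpace n A).Modules := by assumption
  let F := fun _ : Idx n i => (Twist.twist (CohB1.polyGrading n A) (-(-(a + i))) : (Proj (CohB1.polyGrading n A)).Modules)
  let e : T n A a i ≅ ⨁ F :=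
    { hom := biproduct.lift (pT a i)
      inv := biproduct.desc (qT a i)
      hom_inv_id := biproduct.lift_desc.trans
        (RegTilde.sum_pMap_qMap (CohB1.polyGrading n A) (w i) (π i) (fun _ => -(a + i)) (w_mem a i) (π_mem a i) (total i))
      inv_hom_id := by
        refine biproduct.hom_ext' _ _ fun b => biproduct.hom_ext _ _ fun b' => ?_
        rw [biproduct.ι_desc_assoc, Category.assoc, biproduct.lift_π, Category.comp_id]
        rcases eq_or_ne b b' with rfl | h
        · rw [qT_pT_self, biproduct.ι_π_self]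
        · rw [qT_pT_ne a i h, biproduct.ι_π_ne _ h] }
  exact ⟨e ≪≫ (biproduct.isoCoproduct F :)⟩

variable (n A) in
theorem nonempty_iso_fin (a : ℤ) (i : ℕ) :
    Nonempty ((cx n A a).X (i : ℤ) ≅
      ∐ fun _ : Fin (Nat.choose (n + 1) i) => Twist.twistProjSpace n A (a + i)) := by
  obtain ⟨e⟩ := nonempty_iso n A a (i : ℤ)
  let σ : Idx n (i : ℤ) ≃ Fin (Nat.choose (n + 1) i) :=
    (Equiv.subtypeEquivRight fun S => Nat.cast_inj).trans
      (Fintype.equivFinOfCardEq ((Fintype.card_finset_len i).trans (by rw [Fintype.card_fin])))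
  have h : Twist.twist (CohB1.polyGrading n A) (-(-(a + (i : ℤ)))) = Twist.twistProjSpace n A (a + i) := by
    rw [neg_neg]; rfl
  exact ⟨e ≪≫ Sigma.whiskerEquiv σ fun _ => eqToIso h.symm⟩

variable (n A) in
theorem isZero_cx (a i : ℤ) (h : i < 0 ∨ (n : ℤ) + 1 < i) : IsZero ((cx n A a).X i) := by
  obtain ⟨e⟩ := nonempty_iso n A a i
  refine IsZero.of_iso ?_ e
  haveI : IsEmpty (Idx n i) := ⟨fun ⟨S, hS⟩ => by
    have := Finset.card_le_univ S
    rw [Fintype.card_fin] at this
    omega⟩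
  exact (IsZero.iff_id_eq_zero _).2 (Sigma.hom_ext _ _ fun b => isEmptyElim b)

end Groth.Agent.GrLib8.KoszTwist
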